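import Mathlib.GroupTheory.Sylow
import Mathlib.GroupTheory.GroupAction.Pointwise
import Mathlib.Data.Set.Card
import Mathlib.Algebra.BigOperators.Ring.Finset

/-!
Weights `(p - 1)` on points moved by a Sylow `p`-subgroup and `-p` on points fixed by it.
-/

set_option autoImplicit false
set_option linter.unusedSectionVars false

open scoped Classical Pointwise

namespace CfsgLib.PraegerOrbit

universe u v

variable {p : ℕ} [Fact p.Prime] {G : Type u} [Group G] [Finite G] {α : Type v} [MulAction G α]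

/-- `Q` fixes the point `y`. -/
def PtFix (Q : Sylow p G) (y : α) : Prop := ∀ u ∈ (Q : Subgroup G), u • y = y

/-- The weight of a point. -/
noncomputable def wt (Q : Sylow p G) (y : α) : ℤ := if PtFix Q y then -(p : ℤ) else (p : ℤ) - 1

/-- The slack of a set of points. -/
noncomputable def slack (Q : Sylow p G) (Z : Finset α) : ℤ := ∑ y ∈ Z, wt Q y

/-- `Z` is invariant under the group. -/
def Inv (G : Type u) [Group G] [MulAction G α] (Z : Finset α) : Prop := ∀ g : G, ∀ y ∈ Z, g • y ∈ Z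

theorem mem_smul_sylow {Q : Sylow p G} {g u : G} : u ∈ (g • Q : Sylow p G) ↔ g⁻¹ * u * g ∈ Q := by
  show u ∈ ((g • Q : Sylow p G) : Subgroup G) ↔ g⁻¹ * u * g ∈ (Q : Subgroup G)
  rw [Sylow.coe_subgroup_smul, Subgroup.mem_pointwise_smul_iff_inv_smul_mem]
  simp [MulAut.inv_apply, MulAut.conj_symm_apply]

theorem ptFix_smul {Q : Sylow p G} {g : G} {y : α} : PtFix (g • Q) (g • y) ↔ PtFix Q y := by
  constructor
  · intro h u hu
    have h1 := h (g * u * g⁻¹) (mem_smul_sylow.2 (by simpa [mul_assoc] using (show u ∈ Q from hu)))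
    rw [mul_smul, mul_smul, inv_smul_smul] at h1
    exact MulAction.injective g h1
  · intro h u hu
    have h1 := h _ (mem_smul_sylow.1 hu)
    rw [mul_smul, mul_smul, inv_smul_eq_iff] at h1
    exact h1

theorem slack_smul {Z : Finset α} (hZ : Inv G Z) (Q : Sylow p G) (g : G) :
    slack (g • Q) Z = slack Q Z := by
  unfold slack
  symm
  refine Finset.sum_bij' (fun y _ => g • y) (fun y _ => g⁻¹ • y) (fun y hy => hZ g y hy)
    (fun y hy => hZ g⁻¹ y hy) (fun y _ => inv_smul_smul g y) (fun y _ => smul_inv_smul g y) ?_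
  intro y _
  simp only [wt, ptFix_smul]

theorem slack_congr {Z : Finset α} (hZ : Inv G Z) (Q Q' : Sylow p G) : slack Q Z = slack Q' Z := by
  obtain ⟨g, rfl⟩ := MulAction.exists_smul_eq G Q' Q
  exact slack_smul hZ Q' g

theorem ptFix_subtype {H : Subgroup G} {Q : Sylow p G} (hQ : (Q : Subgroup G) ≤ H) {y : α} :
    PtFix (Q.subtype hQ) y ↔ PtFix Q y := by
  constructor
  · intro h u hu
    exact h ⟨u, hQ hu⟩ hu
  · intro h u hu
    exact h u hu

theorem slack_subtype {H : Subgroup G} {Q : Sylow p G} (hQ : (Q : Subgroup G) ≤ H) (Z : Finset α) :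
    slack (Q.subtype hQ) Z = slack Q Z := by
  simp only [slack, wt, ptFix_subtype]

theorem exists_conj_mem {H : Subgroup G} {Q Q' : Sylow p G} (hQ : (Q : Subgroup G) ≤ H)
    (hQ' : (Q' : Subgroup G) ≤ H) : ∃ h ∈ H, h • Q = Q' := by
  obtain ⟨h, hh⟩ := MulAction.exists_smul_eq H (Q.subtype hQ) (Q'.subtype hQ')
  refine ⟨h, h.2, ?_⟩
  rw [Sylow.smul_subtype] at hh
  exact Sylow.subtype_injective hh

/-- The Sylow subgroups fixing a point. -/
def sfix (p : ℕ) (G : Type u) [Group G] [MulAction G α] (y : α) : Set (Sylow p G) :=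
  {Q | ∀ u ∈ (Q : Subgroup G), u • y = y}

theorem mem_sfix {Q : Sylow p G} {y : α} : Q ∈ sfix p G y ↔ PtFix Q y := Iff.rfl

theorem sfix_smul (g : G) (y : α) : sfix p G (g • y) = g • sfix p G y := by
  ext Q
  rw [Set.mem_smul_set_iff_inv_smul_mem, mem_sfix, mem_sfix]
  conv_lhs => rw [← smul_inv_smul g Q]
  exact ptFix_smul

theorem ptFix_sfix {Q : Sylow p G} {y : α} (hy : ∃ Q₁ : Sylow p G, PtFix Q₁ y) :
    PtFix Q (sfix p G y) ↔ PtFix Q y := by
  constructor
  · intro h
    obtain ⟨Q₁, h₁⟩ := hy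
    have hle : (Q : Subgroup G) ≤ MulAction.stabilizer G (sfix p G y) := fun u hu => h u hu
    have hle₁ : (Q₁ : Subgroup G) ≤ MulAction.stabilizer G (sfix p G y) := fun u hu => by
      rw [MulAction.mem_stabilizer_iff, ← sfix_smul, h₁ u hu]
    obtain ⟨g, hg, hgQ⟩ := exists_conj_mem hle₁ hle
    rw [← mem_sfix, ← hgQ, ← (MulAction.mem_stabilizer_iff.1 hg)]
    exact Set.smul_mem_smul_set h₁
  · intro h u hu
    rw [← sfix_smul, h u hu]

theorem wt_sfix {Q : Sylow p G} {y : α} (hy : ∃ Q₁ : Sylow p G, PtFix Q₁ y) :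
    wt Q (sfix p G y) = wt Q y := by
  simp only [wt, ptFix_sfix hy]

theorem card_orbit_pos_power (Q : Sylow p G) {y : α} (hy : ¬ PtFix Q y) :
    ∃ O : Finset α, (∀ z, z ∈ O ↔ z ∈ MulAction.orbit (Q : Subgroup G) y) ∧ y ∈ O ∧
      ∃ k, O.card = p ^ (k + 1) := by
  have : Finite (MulAction.orbit (Q : Subgroup G) y) :=
    Finite.Set.finite_range fun g : (Q : Subgroup G) => g • y
  obtain ⟨k, hk⟩ := Q.2.card_orbit y
  refine ⟨(Set.toFinite (MulAction.orbit (Q : Subgroup G) y)).toFinset, fun z => Set.Finite.mem_toFinset _, ?_, ?_⟩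
  · rw [Set.Finite.mem_toFinset]
    exact MulAction.mem_orbit_self y
  · rcases k with _ | k
    · exfalso
      apply hy
      intro u hu
      rw [pow_zero, Nat.card_eq_one_iff_unique] at hk
      have := hk.1
      have := Subsingleton.elim
        (⟨u • y, MulAction.mem_orbit y (⟨u, hu⟩ : (Q : Subgroup G))⟩ : MulAction.orbit (Q : Subgroup G) y)
        ⟨y, MulAction.mem_orbit_self y⟩
      exact congrArg Subtype.val this
    · refine ⟨k, ?_⟩
      rw [← hk, Nat.card_coe_set_eq, Set.ncard_eq_toFinset_card _ (Set.toFinite _)]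

theorem orbit_subset {Z : Finset α} (hZ : Inv G Z) {Q : Sylow p G} {y z : α} (hy : y ∈ Z)
    (hz : z ∈ MulAction.orbit (Q : Subgroup G) y) : z ∈ Z := by
  obtain ⟨g, rfl⟩ := hz
  exact hZ g y hy

theorem dvd_slack {Z : Finset α} (hZ : Inv G Z) (Q : Sylow p G) : (p : ℤ) ∣ slack Q Z := by
  have hM : p ∣ (Z.filter fun y => ¬ PtFix Q y).card := by
    rw [Finset.card_eq_sum_card_image (fun y => MulAction.orbit (Q : Subgroup G) y)]
    refine Finset.dvd_sum fun o ho => ?_
    obtain ⟨y, hy, rfl⟩ := Finset.mem_image.1 ho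
    rw [Finset.mem_filter] at hy
    obtain ⟨O, hO, -, k, hk⟩ := card_orbit_pos_power Q hy.2
    refine ⟨p ^ k, ?_⟩
    rw [← pow_succ', ← hk]
    congr 1
    ext z
    rw [Finset.mem_filter, Finset.mem_filter, hO]
    constructor
    · rintro ⟨-, hz⟩
      rw [← hz]
      exact MulAction.mem_orbit_self z
    · intro hz
      refine ⟨⟨orbit_subset hZ hy.1 hz, ?_⟩, MulAction.orbit_eq_iff.2 hz⟩
      intro hfix
      apply hy.2
      obtain ⟨g, hg⟩ := hz
      have e : y = z := by
        have := hfix (g : G)⁻¹ (Subgroup.inv_mem _ g.2)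
        rw [← hg] at this ⊢
        change (g : G)⁻¹ • ((g : G) • y) = (g : G) • y at this
        rw [inv_smul_smul] at this
        exact this
      rw [e]
      exact hfix
  have hs : slack Q Z = ((Z.filter fun y => PtFix Q y).card : ℤ) * -(p : ℤ) +
      ((Z.filter fun y => ¬ PtFix Q y).card : ℤ) * ((p : ℤ) - 1) := by
    rw [slack, show (∑ y ∈ Z, wt Q y) = ∑ y ∈ Z, if PtFix Q y then -(p : ℤ) else (p : ℤ) - 1 from rfl,
      Finset.sum_ite]
    simp [mul_sub]
  rw [hs]
  exact dvd_add (dvd_mul_of_dvd_right (dvd_neg.2 dvd_rfl) _)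
    (dvd_mul_of_dvd_left (Int.natCast_dvd_natCast.2 hM) _)

end CfsgLib.PraegerOrbit
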