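import Cfsg.Agent.Lib.PraegerOrbit.Basic

/-!
A Sylow `p`-subgroup of a group transitive on `n` points which moves some point fixes at most
`(p - 1) n / (2 p - 1)` points.

Induction on `n`. After identifying points fixed by the same Sylow subgroups the bound for the
orbits of a point stabiliser gives the result up to `p`; in the extremal case there is an orbit
of size `p` and any `p` points are fixed by a common Sylow subgroup, which is impossible.
-/

set_option autoImplicit false
set_option linter.unusedSectionVars false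

open scoped Classical Pointwise

namespace CfsgLib.PraegerOrbit

universe u

/-- The bound for transitive sets with fewer than `N` points. -/
def BoundBelow (p N : ℕ) : Prop :=
  ∀ (L : Type u) [Group L] [Finite L] (β : Type u) [MulAction L β] (Z : Finset β) (Q : Sylow p L),
    Inv L Z → Z.card < N → (∀ a ∈ Z, ∀ b ∈ Z, ∃ g : L, g • a = b) →
      (∀ y ∈ Z, ∃ R : Sylow p L, ¬ PtFix R y) → 0 ≤ slack Q Z

variable {p N : ℕ} [Fact p.Prime] {L : Type u} [Group L] [Finite L] {β : Type u} [MulAction L β]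

theorem inv_sdiff {Z Z' : Finset β} (h : Inv L Z) (h' : Inv L Z') : Inv L (Z \ Z') := by
  intro g y hy
  rw [Finset.mem_sdiff] at hy ⊢
  refine ⟨h g y hy.1, fun hg => hy.2 ?_⟩
  simpa using h' g⁻¹ _ hg

theorem weighted_nonneg (hB : BoundBelow.{u} p N) {Z : Finset β} (hZ : Inv L Z) (hN : Z.card < N)
    (hgood : ∀ y ∈ Z, ∃ R : Sylow p L, ¬ PtFix R y) (w : β → ℕ)
    (hw : ∀ (g : L), ∀ y ∈ Z, w (g • y) = w y) (Q : Sylow p L) :
    0 ≤ ∑ y ∈ Z, (w y : ℤ) * wt Q y := by
  rw [← Finset.sum_fiberwise_of_maps_to (g := fun y : β => MulAction.orbit L y)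
    (t := Z.image fun y : β => MulAction.orbit L y) (fun y hy => Finset.mem_image_of_mem _ hy)]
  refine Finset.sum_nonneg fun o ho => ?_
  obtain ⟨a, ha, rfl⟩ := Finset.mem_image.1 ho
  have hconst : ∀ y ∈ Z.filter (fun y => MulAction.orbit L y = MulAction.orbit L a),
      (w y : ℤ) * wt Q y = (w a : ℤ) * wt Q y := by
    intro y hy
    rw [Finset.mem_filter] at hy
    obtain ⟨g, hg⟩ := MulAction.orbit_eq_iff.1 hy.2
    rw [← hw g a ha]
    exact congrArg (fun z => (w z : ℤ) * wt Q y) hg.symm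
  rw [Finset.sum_congr rfl hconst, ← Finset.mul_sum]
  refine mul_nonneg (by positivity) (hB L β _ Q ?_ ?_ ?_ ?_)
  · intro g y hy
    rw [Finset.mem_filter] at hy ⊢
    exact ⟨hZ g y hy.1, by rw [MulAction.orbit_smul, hy.2]⟩
  · exact lt_of_le_of_lt (Finset.card_filter_le _ _) hN
  · intro x hx y hy
    rw [Finset.mem_filter] at hx hy
    exact MulAction.orbit_eq_iff.1 (hy.2.trans hx.2.symm)
  · intro y hy
    exact hgood y (Finset.mem_filter.1 hy).1

theorem slack_mono (hB : BoundBelow.{u} p N) {Z Z' : Finset β} (hZ : Inv L Z) (hZ' : Inv L Z')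
    (hsub : Z' ⊆ Z) (hN : Z.card < N) (hgood : ∀ y ∈ Z, ∃ R : Sylow p L, ¬ PtFix R y)
    (Q : Sylow p L) : slack Q Z' ≤ slack Q Z := by
  have h := weighted_nonneg hB (inv_sdiff hZ hZ')
    (lt_of_le_of_lt (Finset.card_le_card Finset.sdiff_subset) hN)
    (fun y hy => hgood y (Finset.mem_sdiff.1 hy).1) (fun _ => 1) (fun _ _ _ => rfl) Q
  simp only [Nat.cast_one, one_mul] at h
  unfold slack
  rw [← Finset.sum_sdiff hsub]
  linarith

theorem inv_image {Z : Finset β} (hZ : Inv L Z) : Inv L (Z.image (sfix p L)) := by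
  intro g t ht
  obtain ⟨y, hy, rfl⟩ := Finset.mem_image.1 ht
  exact Finset.mem_image.2 ⟨g • y, hZ g y hy, sfix_smul g y⟩

theorem card_fibre_smul {Z : Finset β} (hZ : Inv L Z) (g : L) (t : Set (Sylow p L)) :
    (Z.filter fun y => sfix p L y = g • t).card = (Z.filter fun y => sfix p L y = t).card := by
  refine Finset.card_bij' (fun y _ => g⁻¹ • y) (fun y _ => g • y) ?_ ?_ ?_ ?_
  · intro y hy
    simp only [Finset.mem_filter] at *
    exact ⟨hZ _ y hy.1, by rw [sfix_smul, hy.2, inv_smul_smul]⟩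
  · intro y hy
    simp only [Finset.mem_filter] at *
    exact ⟨hZ _ y hy.1, by rw [sfix_smul, hy.2]⟩
  · intro y _; exact smul_inv_smul g y
  · intro y _; exact inv_smul_smul g y

theorem slack_image {Z : Finset β} (hfix : ∀ y ∈ Z, ∃ R : Sylow p L, PtFix R y) (Q : Sylow p L) :
    slack Q Z = ∑ t ∈ Z.image (sfix p L),
      ((Z.filter fun y => sfix p L y = t).card : ℤ) * wt Q t := by
  unfold slack
  rw [← Finset.sum_fiberwise_of_maps_to (g := sfix p L) (t := Z.image (sfix p L))
    (fun y hy => Finset.mem_image_of_mem _ hy)]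
  refine Finset.sum_congr rfl fun t _ => ?_
  rw [Finset.sum_congr rfl (g := fun _ => wt Q t) ?_, Finset.sum_const, nsmul_eq_mul]
  intro y hy
  rw [Finset.mem_filter] at hy
  rw [← hy.2, wt_sfix (hfix y hy.1)]

theorem good_image {Z : Finset β} (hfix : ∀ y ∈ Z, ∃ R : Sylow p L, PtFix R y)
    (hgood : ∀ y ∈ Z, ∃ R : Sylow p L, ¬ PtFix R y) :
    ∀ t ∈ Z.image (sfix p L), ∃ R : Sylow p L, ¬ PtFix R t := by
  intro t ht
  obtain ⟨y, hy, rfl⟩ := Finset.mem_image.1 ht
  obtain ⟨R, hR⟩ := hgood y hy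
  exact ⟨R, fun h => hR ((ptFix_sfix (hfix y hy)).1 h)⟩

theorem slack_image_le (hB : BoundBelow.{u} p N) {Z : Finset β} (hZ : Inv L Z) (hN : Z.card < N)
    (hfix : ∀ y ∈ Z, ∃ R : Sylow p L, PtFix R y)
    (hgood : ∀ y ∈ Z, ∃ R : Sylow p L, ¬ PtFix R y) (Q : Sylow p L) :
    slack Q (Z.image (sfix p L)) ≤ slack Q Z := by
  have h := weighted_nonneg hB (inv_image hZ) (lt_of_le_of_lt Finset.card_image_le hN)
    (good_image hfix hgood) (fun t => (Z.filter fun y => sfix p L y = t).card - 1)
    (fun g t _ => by simp only [card_fibre_smul hZ g t]) Q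
  rw [slack_image hfix]
  have e : ∀ t ∈ Z.image (sfix p L),
      ((((Z.filter fun y => sfix p L y = t).card - 1 : ℕ)) : ℤ) * wt Q t =
        ((Z.filter fun y => sfix p L y = t).card : ℤ) * wt Q t - wt Q t := by
    intro t ht
    obtain ⟨y, hy, hyt⟩ := Finset.mem_image.1 ht
    have h1 : 1 ≤ (Z.filter fun y => sfix p L y = t).card :=
      Finset.card_pos.2 ⟨y, Finset.mem_filter.2 ⟨hy, hyt⟩⟩
    rw [Nat.cast_sub h1]
    ring
  rw [Finset.sum_congr rfl e, Finset.sum_sub_distrib] at h
  unfold slack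
  linarith

/-- If the slack is small, few points are fixed by a common Sylow subgroup. -/
theorem exists_common (hB : BoundBelow.{u} p N) : ∀ (m : ℕ) {L : Type u} [Group L] [Finite L]
    {β : Type u} [MulAction L β] (Z A : Finset β) (Q : Sylow p L), A.card ≤ m → A ⊆ Z → Inv L Z →
    Z.card < N → (∀ y ∈ Z, ∃ R : Sylow p L, ¬ PtFix R y) →
    slack Q Z + (p : ℤ) * A.card ≤ (p : ℤ) * ((p : ℤ) - 1) →
    ∃ R : Sylow p L, ∀ a ∈ A, PtFix R a := by
  intro m
  induction m with
  | zero =>
    intro L _ _ β _ Z A Q hA _ _ _ _ _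
    refine ⟨Q, fun a ha => ?_⟩
    rw [Finset.card_eq_zero.1 (Nat.le_zero.1 hA)] at ha
    simp at ha
  | succ m ih =>
    intro L _ _ β _ Z A Q hA hAZ hZ hN hgood hslack
    rcases A.eq_empty_or_nonempty with rfl | hne
    · exact ⟨Q, fun a ha => by simp at ha⟩
    have hp : (2 : ℤ) ≤ p := by exact_mod_cast (Fact.out : p.Prime).two_le
    have hA1 : (1 : ℤ) ≤ A.card := by exact_mod_cast hne.card_pos
    set Z1 := Z.filter (fun y => ∃ a ∈ A, y ∈ MulAction.orbit L a) with hZ1
    have hZ1i : Inv L Z1 := by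
      intro g y hy
      rw [hZ1, Finset.mem_filter] at hy ⊢
      obtain ⟨hy1, a, ha, hya⟩ := hy
      exact ⟨hZ g y hy1, a, ha, MulAction.mem_orbit_of_mem_orbit g hya⟩
    have hsub : Z1 ⊆ Z := Finset.filter_subset _ _
    have hgood1 : ∀ y ∈ Z1, ∃ R : Sylow p L, ¬ PtFix R y := fun y hy => hgood y (hsub hy)
    have hN1 : Z1.card < N := lt_of_le_of_lt (Finset.card_le_card hsub) hN
    have hfix : ∀ y ∈ Z1, ∃ R : Sylow p L, PtFix R y := by
      intro y hy
      by_contra hno
      push Not at hno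
      set Γ := Z1.filter (fun z => z ∈ MulAction.orbit L y) with hΓ
      have hΓi : Inv L Γ := by
        intro g z hz
        rw [hΓ, Finset.mem_filter] at hz ⊢
        exact ⟨hZ1i g z hz.1, MulAction.mem_orbit_of_mem_orbit g hz.2⟩
      have h1 := slack_mono hB hZ hΓi ((Finset.filter_subset _ _).trans hsub) hN hgood Q
      have h2 : slack Q Γ = (Γ.card : ℤ) * ((p : ℤ) - 1) := by
        unfold slack
        rw [Finset.sum_congr rfl (g := fun _ => (p : ℤ) - 1) ?_, Finset.sum_const, nsmul_eq_mul]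
        intro z hz
        rw [hΓ, Finset.mem_filter] at hz
        obtain ⟨g, rfl⟩ := hz.2
        rw [wt, if_neg]
        intro h
        apply hno (g⁻¹ • Q)
        have h' := (ptFix_smul (g := g⁻¹)).2 h
        simpa using h'
      obtain ⟨R, hR⟩ := hgood1 y hy
      obtain ⟨O, hO, -, k, hk⟩ := card_orbit_pos_power R hR
      have hOΓ : O ⊆ Γ := by
        intro z hz
        rw [hΓ, Finset.mem_filter]
        refine ⟨orbit_subset hZ1i hy ((hO z).1 hz), ?_⟩
        obtain ⟨g, rfl⟩ := (hO z).1 hz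
        exact MulAction.mem_orbit y (g : L)
      have h3 : (p : ℤ) ≤ Γ.card := by
        have h4 : p ≤ p ^ (k + 1) := Nat.le_self_pow (Nat.succ_ne_zero k) p
        exact_mod_cast h4.trans (hk ▸ Finset.card_le_card hOΓ)
      nlinarith
    set T := Z1.image (sfix p L) with hT
    have hTi : Inv L T := inv_image hZ1i
    have hgoodT := good_image hfix hgood1
    have hTN : T.card < N := lt_of_le_of_lt Finset.card_image_le hN1
    have hslackT : slack Q T ≤ slack Q Z :=
      (slack_image_le hB hZ1i hN1 hfix hgood1 Q).trans (slack_mono hB hZ hZ1i hsub hN hgood Q)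
    have hAZ1 : A ⊆ Z1 := fun a ha => Finset.mem_filter.2 ⟨hAZ ha, a, ha, MulAction.mem_orbit_self a⟩
    obtain ⟨a, ha, hmax⟩ := Finset.exists_max_image (A.image (sfix p L)) Set.ncard (hne.image _)
    have haT : a ∈ T := Finset.image_subset_image hAZ1 ha
    obtain ⟨a0, ha0, rfl⟩ := Finset.mem_image.1 ha
    obtain ⟨Q0, hQ0⟩ := hfix a0 (hAZ1 ha0)
    set L' := MulAction.stabilizer L (sfix p L a0) with hL'
    have hle : ∀ R : Sylow p L, PtFix R a0 → (R : Subgroup L) ≤ L' := by
      intro R hR u hu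
      rw [hL', MulAction.mem_stabilizer_iff, ← sfix_smul, hR u hu]
    have hgood' : ∀ t ∈ T.erase (sfix p L a0), ∃ R : Sylow p L', ¬ PtFix R t := by
      intro t ht
      obtain ⟨hne', htT⟩ := Finset.mem_erase.1 ht
      by_contra hno
      push Not at hno
      obtain ⟨y, hy, rfl⟩ := Finset.mem_image.1 htT
      have hsubset : sfix p L a0 ⊆ sfix p L y := by
        intro R hR
        exact (ptFix_sfix (hfix y hy)).1 ((ptFix_subtype (hle R hR)).1 (hno _))
      obtain ⟨hyZ, b, hb, g, hg⟩ := Finset.mem_filter.1 hy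
      apply hne'
      refine (Set.eq_of_subset_of_ncard_le hsubset ?_ (Set.toFinite _)).symm
      rw [show y = g • b from hg.symm, sfix_smul, ← Set.image_smul,
        Set.ncard_image_of_injective _ (MulAction.injective g)]
      exact hmax _ (Finset.mem_image_of_mem _ hb)
    have hinv' : Inv L' (T.erase (sfix p L a0)) := by
      intro g t ht
      rw [Finset.mem_erase] at ht ⊢
      refine ⟨fun h => ht.1 ?_, hTi g t ht.2⟩
      have hg : (g : L) • sfix p L a0 = sfix p L a0 := MulAction.mem_stabilizer_iff.1 g.2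
      exact MulAction.injective (g : L) (h.trans hg.symm)
    have hfix0 : PtFix Q0 (sfix p L a0) := (ptFix_sfix ⟨Q0, hQ0⟩).2 hQ0
    have hs' : slack (Q0.subtype (hle Q0 hQ0)) (T.erase (sfix p L a0)) = slack Q T + p := by
      rw [slack_subtype, slack_congr hTi Q Q0]
      unfold slack
      rw [← Finset.add_sum_erase T (wt Q0) haT, show wt Q0 (sfix p L a0) = -(p : ℤ) from if_pos hfix0]
      ring
    set A'' := (A.image (sfix p L)).erase (sfix p L a0) with hA''
    have hcard : A''.card + 1 ≤ A.card := by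
      rw [hA'', Finset.card_erase_of_mem ha]
      have := Finset.card_image_le (s := A) (f := sfix p L)
      have := Finset.card_pos.2 ⟨_, ha⟩
      omega
    obtain ⟨R, hR⟩ := ih (T.erase (sfix p L a0)) A'' (Q0.subtype (hle Q0 hQ0)) (by omega)
      (Finset.erase_subset_erase _ (Finset.image_subset_image hAZ1)) hinv'
      (lt_of_le_of_lt (Finset.card_erase_le) hTN) hgood' (by
        rw [hs']
        have hc : (A''.card : ℤ) + 1 ≤ A.card := by exact_mod_cast hcard
        nlinarith)
    obtain ⟨g, hg⟩ := MulAction.exists_smul_eq L' (Q0.subtype (hle Q0 hQ0)) R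
    rw [Sylow.smul_subtype] at hg
    subst hg
    refine ⟨(g : L) • Q0, fun b hb => ?_⟩
    have hga : PtFix ((g : L) • Q0) (sfix p L a0) := by
      have hgs : (g : L) • sfix p L a0 = sfix p L a0 := MulAction.mem_stabilizer_iff.1 g.2
      rw [← hgs]
      exact ptFix_smul.2 hfix0
    refine (ptFix_sfix (hfix b (hAZ1 hb))).1 ?_
    by_cases hba : sfix p L b = sfix p L a0
    · rw [hba]; exact hga
    · exact (ptFix_subtype _).1 (hR _ (Finset.mem_erase.2 ⟨hba, Finset.mem_image_of_mem _ hb⟩))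

end CfsgLib.PraegerOrbit
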