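import Cfsg.Agent.Lib.PraegerOrbit.Core
import Mathlib.GroupTheory.Index
import Mathlib.GroupTheory.GroupAction.Quotient

/-!
The bound `(2 p - 1) f ≤ (p - 1) n`.
-/

set_option autoImplicit false
set_option linter.unusedSectionVars false

open scoped Classical Pointwise

namespace CfsgLib.PraegerOrbit

universe u

variable {p : ℕ} [Fact p.Prime]

section
variable {G : Type u} [Group G] [Finite G] {α : Type u} [MulAction G α]

/-- An orbit with a fixed point and no slack contains an orbit of `Q` with `p` points. -/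
theorem exists_orbit_prime {Z : Finset α} (hZ : Inv G Z) (hne : Z.Nonempty)
    (htr : ∀ a ∈ Z, ∀ b ∈ Z, ∃ g : G, g • a = b) (Q : Sylow p G) (h0 : slack Q Z = 0) :
    ∃ O : Finset α, ∃ z, O ⊆ Z ∧ z ∈ O ∧ (∀ w, w ∈ O ↔ w ∈ MulAction.orbit (Q : Subgroup G) z) ∧
      O.card = p := by
  have hp : p.Prime := Fact.out
  set F := Z.filter fun y => PtFix Q y with hF
  set M := Z.filter fun y => ¬ PtFix Q y with hM
  have hZc : F.card + M.card = Z.card := Finset.card_filter_add_card_filter_not _
  have hs : (M.card : ℤ) * ((p : ℤ) - 1) = (F.card : ℤ) * p := by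
    have h : slack Q Z = (F.card : ℤ) * -(p : ℤ) + (M.card : ℤ) * ((p : ℤ) - 1) := by
      rw [slack, show (∑ y ∈ Z, wt Q y) = ∑ y ∈ Z, if PtFix Q y then -(p : ℤ) else (p : ℤ) - 1 from rfl,
        Finset.sum_ite]
      simp [hF, hM, mul_sub]
    linarith
  by_contra hno
  push Not at hno
  have hp2 : p * p ∣ M.card := by
    rw [Finset.card_eq_sum_card_image (fun y => MulAction.orbit (Q : Subgroup G) y)]
    refine Finset.dvd_sum fun o ho => ?_
    obtain ⟨y, hy, rfl⟩ := Finset.mem_image.1 ho
    rw [hM, Finset.mem_filter] at hy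
    obtain ⟨O, hO, hyO, k, hk⟩ := card_orbit_pos_power Q hy.2
    have hsub : O ⊆ Z := fun w hw => orbit_subset hZ hy.1 ((hO w).1 hw)
    have hk1 : 1 ≤ k := by
      rcases k with _ | k
      · exact absurd (by simpa using hk) (hno O y hsub hyO hO)
      · omega
    obtain ⟨j, rfl⟩ : ∃ j, k = j + 1 := ⟨k - 1, by omega⟩
    refine ⟨p ^ j, ?_⟩
    rw [show p * p * p ^ j = p ^ (j + 1 + 1) by ring, ← hk]
    congr 1
    ext w
    rw [Finset.mem_filter, hM, Finset.mem_filter, hO]
    constructor
    · rintro ⟨-, hw⟩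
      rw [← hw]
      exact MulAction.mem_orbit_self w
    · intro hw
      refine ⟨⟨orbit_subset hZ hy.1 hw, ?_⟩, MulAction.orbit_eq_iff.2 hw⟩
      intro hfix
      apply hy.2
      obtain ⟨g, hg⟩ := hw
      have e : y = w := by
        have := hfix (g : G)⁻¹ (Subgroup.inv_mem _ g.2)
        rw [← hg] at this ⊢
        change (g : G)⁻¹ • ((g : G) • y) = (g : G) • y at this
        rw [inv_smul_smul] at this
        exact this
      rw [e]
      exact hfix
  obtain ⟨c, hc⟩ := hp2
  have hpF : p ∣ F.card := by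
    have h1 : (p : ℤ) * ((F.card : ℤ)) = (p : ℤ) * ((p : ℤ) * c * ((p : ℤ) - 1)) := by
      rw [hc] at hs; push_cast at hs; linarith
    have h2 := mul_left_cancel₀ (by exact_mod_cast hp.ne_zero) h1
    exact Int.natCast_dvd_natCast.1 ⟨c * ((p : ℤ) - 1), by rw [h2]; ring⟩
  have hpZ : p ∣ Z.card := hZc ▸ Nat.dvd_add hpF ⟨p * c, by rw [hc]; ring⟩
  have hFne : F.Nonempty := by
    rw [← Finset.card_pos]
    rcases Nat.eq_zero_or_pos F.card with h | h
    · exfalso
      rw [h] at hs hZc
      have hp1 : ((p : ℤ) - 1) ≠ 0 := by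
        have : (2 : ℤ) ≤ p := by exact_mod_cast hp.two_le
        omega
      have : M.card = 0 := by
        have := (mul_eq_zero.1 (hs.trans (by simp))).resolve_right hp1
        exact_mod_cast this
      have := hne.card_pos
      omega
    · exact h
  obtain ⟨y, hy⟩ := hFne
  rw [hF, Finset.mem_filter] at hy
  have hidx : Z.card = (MulAction.stabilizer G y).index := by
    rw [MulAction.index_stabilizer, ← Set.ncard_coe_finset]
    congr 1
    ext w
    constructor
    · intro hw
      exact htr y hy.1 w hw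
    · rintro ⟨g, rfl⟩
      exact hZ g y hy.1
  have hle : (Q : Subgroup G) ≤ MulAction.stabilizer G y := fun u hu => hy.2 u hu
  exact Q.not_dvd_index ((hidx ▸ hpZ).trans (Subgroup.index_dvd_of_le hle))

end

/-- The induction step. -/
theorem boundBelow : ∀ N : ℕ, BoundBelow.{u} p N := by
  intro N
  induction N with
  | zero => intro L _ _ β _ Z Q _ h; omega
  | succ N ih =>
    intro L _ _ β _ Z Q hZ hN htr hgood
    have hp : (2 : ℤ) ≤ p := by exact_mod_cast (Fact.out : p.Prime).two_le
    rcases Nat.lt_succ_iff_lt_or_eq.1 hN with h | hZN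
    · exact ih L β Z Q hZ h htr hgood
    by_cases hfix : ∃ y ∈ Z, PtFix Q y
    swap
    · push Not at hfix
      exact Finset.sum_nonneg fun y hy => by rw [wt, if_neg (hfix y hy)]; omega
    obtain ⟨x, hx, hQx⟩ := hfix
    have hfixall : ∀ y ∈ Z, ∃ R : Sylow p L, PtFix R y := by
      intro y hy
      obtain ⟨g, rfl⟩ := htr x hx y hy
      exact ⟨g • Q, ptFix_smul.2 hQx⟩
    by_cases hinj : (Z : Set β).InjOn (sfix p L)
    swap
    · have hlt : (Z.image (sfix p L)).card < N := by
        rcases lt_or_eq_of_le (Finset.card_image_le (s := Z) (f := sfix p L)) with h | h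
        · exact hZN ▸ h
        · exact absurd (Finset.card_image_iff.1 h) hinj
      rw [slack_image hfixall]
      exact weighted_nonneg ih (inv_image hZ) hlt (good_image hfixall hgood) _
        (fun g t _ => card_fibre_smul hZ g t) Q
    have hncard : ∀ y ∈ Z, ∀ z ∈ Z, (sfix p L y).ncard = (sfix p L z).ncard := by
      intro y hy z hz
      obtain ⟨g, rfl⟩ := htr y hy z hz
      rw [sfix_smul, ← Set.image_smul, Set.ncard_image_of_injective _ (MulAction.injective g)]
    have hlocal : ∀ a ∈ Z, ∀ R : Sylow p L, ∀ hR : (R : Subgroup L) ≤ MulAction.stabilizer L a,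
        Inv (MulAction.stabilizer L a) (Z.erase a) ∧
        (∀ y ∈ Z.erase a, ∃ R' : Sylow p (MulAction.stabilizer L a), ¬ PtFix R' y) ∧
        slack (R.subtype hR) (Z.erase a) = slack R Z + p := by
      intro a ha R hR
      refine ⟨?_, ?_, ?_⟩
      · intro g y hy
        rw [Finset.mem_erase] at hy ⊢
        refine ⟨fun h => hy.1 ?_, hZ g y hy.2⟩
        exact MulAction.injective (g : L) (h.trans (MulAction.mem_stabilizer_iff.1 g.2).symm)
      · intro y hy
        rw [Finset.mem_erase] at hy
        by_contra hno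
        push Not at hno
        have hsub : sfix p L a ⊆ sfix p L y := fun R' hR' =>
          (ptFix_subtype (H := MulAction.stabilizer L a) hR').1 (hno _)
        exact hy.1 (hinj hy.2 ha (Set.eq_of_subset_of_ncard_le hsub
          (hncard y hy.2 a ha).le (Set.toFinite _)).symm)
      · rw [slack_subtype]
        unfold slack
        rw [← Finset.add_sum_erase Z (wt R) ha, wt, if_pos (show PtFix R a from hR)]
        ring
    have hQle : (Q : Subgroup L) ≤ MulAction.stabilizer L x := fun u hu => hQx u hu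
    obtain ⟨hi, hg, hs⟩ := hlocal x hx Q hQle
    have hlt : (Z.erase x).card < N := hZN ▸ Finset.card_erase_lt_of_mem hx
    have h1 := weighted_nonneg ih hi hlt hg (fun _ => 1) (fun _ _ _ => rfl) (Q.subtype hQle)
    simp only [Nat.cast_one, one_mul] at h1
    change 0 ≤ slack (Q.subtype hQle) (Z.erase x) at h1
    by_contra hneg
    push Not at hneg
    obtain ⟨c, hc⟩ := dvd_slack hZ Q
    have hc1 : c = -1 := by
      rw [hs, hc] at h1
      rw [hc] at hneg
      have : c < 0 := by nlinarith
      nlinarith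
    subst hc1
    have hs0 : slack (Q.subtype hQle) (Z.erase x) = 0 := by rw [hs, hc]; ring
    obtain ⟨y0, hy0⟩ : (Z.erase x).Nonempty := by
      obtain ⟨R, hR⟩ := hgood x hx
      obtain ⟨u, hu, hux⟩ : ∃ u ∈ (R : Subgroup L), u • x ≠ x := by
        simpa [PtFix] using hR
      exact ⟨u • x, Finset.mem_erase.2 ⟨hux, hZ u x hx⟩⟩
    set Γ := (Z.erase x).filter (fun z => z ∈ MulAction.orbit (MulAction.stabilizer L x) y0) with hΓ
    have hΓi : Inv (MulAction.stabilizer L x) Γ := by
      intro g z hz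
      rw [hΓ, Finset.mem_filter] at hz ⊢
      exact ⟨hi g z hz.1, MulAction.mem_orbit_of_mem_orbit g hz.2⟩
    have hΓsub : Γ ⊆ Z.erase x := Finset.filter_subset _ _
    have hΓtr : ∀ a ∈ Γ, ∀ b ∈ Γ, ∃ g : MulAction.stabilizer L x, g • a = b := by
      intro a ha b hb
      rw [hΓ, Finset.mem_filter] at ha hb
      exact MulAction.orbit_eq_iff.1 ((MulAction.orbit_eq_iff.2 hb.2).trans (MulAction.orbit_eq_iff.2 ha.2).symm)
    have hΓ0 : slack (Q.subtype hQle) Γ = 0 := by
      have h2 := slack_mono ih hi hΓi hΓsub hlt hg (Q.subtype hQle)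
      have h3 := ih _ _ Γ (Q.subtype hQle) hΓi (lt_of_le_of_lt (Finset.card_le_card hΓsub) hlt) hΓtr
        (fun z hz => hg z (hΓsub hz))
      omega
    obtain ⟨O, z, hOΓ, hzO, hO, hOc⟩ := exists_orbit_prime hΓi
      ⟨y0, Finset.mem_filter.2 ⟨hy0, MulAction.mem_orbit_self y0⟩⟩ hΓtr _ hΓ0
    have hOZ : O ⊆ Z := fun w hw => Finset.mem_of_mem_erase (hΓsub (hOΓ hw))
    have hOorb : ∀ w, w ∈ O → ∀ u ∈ (Q : Subgroup L), u • w ∈ O := by
      intro w hw u hu
      rw [hO] at hw ⊢
      exact MulAction.mem_orbit_of_mem_orbit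
        (⟨⟨u, hQx u hu⟩, hu⟩ : (Q.subtype hQle : Subgroup (MulAction.stabilizer L x))) hw
    obtain ⟨R, hR⟩ := hfixall z (hOZ hzO)
    have hRle : (R : Subgroup L) ≤ MulAction.stabilizer L z := fun u hu => hR u hu
    obtain ⟨hi2, hg2, hs2⟩ := hlocal z (hOZ hzO) R hRle
    have hlt2 : (Z.erase z).card < N := hZN ▸ Finset.card_erase_lt_of_mem (hOZ hzO)
    obtain ⟨R', hR'⟩ := exists_common ih (O.erase z).card (Z.erase z) (O.erase z) (R.subtype hRle) le_rfl
      (Finset.erase_subset_erase z hOZ) hi2 hlt2 hg2 (by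
        rw [hs2, slack_congr hZ R Q, hc, Finset.card_erase_of_mem hzO, hOc,
          Nat.cast_sub (Fact.out : p.Prime).one_le]
        exact le_of_eq (by push_cast; ring))
    obtain ⟨g, hg'⟩ := MulAction.exists_smul_eq (MulAction.stabilizer L z) (R.subtype hRle) R'
    rw [Sylow.smul_subtype] at hg'
    subst hg'
    set Q' := (g : L) • R with hQ'
    have hQ'z : PtFix Q' z := by
      have := (ptFix_smul (g := (g : L))).2 hR
      rwa [MulAction.mem_stabilizer_iff.1 g.2] at this
    have hQ'O : ∀ w ∈ O, PtFix Q' w := by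
      intro w hw
      rcases eq_or_ne w z with rfl | hwz
      · exact hQ'z
      · exact (ptFix_subtype _).1 (hR' w (Finset.mem_erase.2 ⟨hwz, hw⟩))
    set S := MulAction.stabilizer L (O : Set β) with hS
    have hQS : (Q : Subgroup L) ≤ S := by
      intro u hu
      rw [hS, MulAction.mem_stabilizer_iff]
      refine Set.eq_of_subset_of_ncard_le ?_ ?_ O.finite_toSet
      · rintro _ ⟨w, hw, rfl⟩
        exact hOorb w hw u hu
      · rw [← Set.image_smul, Set.ncard_image_of_injective _ (MulAction.injective u)]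
    have hQ'S : (Q' : Subgroup L) ≤ S := by
      intro u hu
      rw [hS, MulAction.mem_stabilizer_iff]
      refine Set.eq_of_subset_of_ncard_le ?_ ?_ O.finite_toSet
      · rintro _ ⟨w, hw, rfl⟩
        show u • w ∈ (O : Set β)
        rw [hQ'O w hw u hu]
        exact hw
      · rw [← Set.image_smul, Set.ncard_image_of_injective _ (MulAction.injective u)]
    obtain ⟨h, hh, hhQ⟩ := exists_conj_mem hQ'S hQS
    have hone : ∀ w ∈ O, PtFix Q w := by
      intro w hw
      rw [← hhQ, ← smul_inv_smul h w]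
      refine ptFix_smul.2 (hQ'O _ ?_)
      rw [← Finset.mem_coe] at hw ⊢
      have hinv := (MulAction.mem_stabilizer_iff.1 (Subgroup.inv_mem _ hh))
      rw [← hinv]
      exact Set.smul_mem_smul_set hw
    have hsub1 : O ⊆ {z} := by
      intro w hw
      obtain ⟨u, rfl⟩ := (hO w).1 hw
      rw [Finset.mem_singleton]
      exact hone z hzO _ u.2
    have := Finset.card_le_card hsub1
    rw [hOc, Finset.card_singleton] at this
    exact absurd this (by have := (Fact.out : p.Prime).two_le; omega)

/-- A Sylow `p`-subgroup of a transitive group which moves a point fixes at most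
`(p - 1) n / (2 p - 1)` points. -/
theorem fixed_bound {G : Type u} [Group G] [Finite G] {Ω : Type*} [MulAction G Ω] [Finite Ω]
    [MulAction.IsPretransitive G Ω] (P : Sylow p G) (hmove : ∃ u ∈ (P : Subgroup G), ∃ a : Ω, u • a ≠ a) :
    (2 * p - 1) * Nat.card {a : Ω // ∀ u ∈ (P : Subgroup G), u • a = a} ≤ (p - 1) * Nat.card Ω := by
  obtain ⟨u, hu, a, hua⟩ := hmove
  set H := MulAction.stabilizer G a with hH
  let e : G ⧸ H ≃ Ω := Equiv.ofBijective (MulAction.ofQuotientStabilizer G a)
    ⟨MulAction.injective_ofQuotientStabilizer G a, fun b => by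
      obtain ⟨g, hg⟩ := MulAction.exists_smul_eq G a b
      exact ⟨(g : G ⧸ H), hg⟩⟩
  have he : ∀ (g : G) (x : G ⧸ H), e (g • x) = g • e x :=
    fun g x => MulAction.ofQuotientStabilizer_smul G a g x
  let _ := Fintype.ofFinite (G ⧸ H)
  have hgood : ∀ y ∈ (Finset.univ : Finset (G ⧸ H)), ∃ R : Sylow p G, ¬ PtFix R y := by
    intro y _
    obtain ⟨g, hg⟩ := MulAction.exists_smul_eq G a (e y)
    refine ⟨g • P, fun h => hua ?_⟩
    have h1 : PtFix (g • P) (g • a) := by
      intro v hv
      rw [hg, ← he, h v hv]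
    exact ptFix_smul.1 h1 u hu
  have h := boundBelow (p := p) ((Finset.univ : Finset (G ⧸ H)).card + 1) G (G ⧸ H) Finset.univ P
    (fun _ _ _ => Finset.mem_univ _) (Nat.lt_succ_self _)
    (fun x _ y _ => MulAction.exists_smul_eq G x y) hgood
  set f := (Finset.univ.filter fun y : G ⧸ H => PtFix P y).card with hf
  have hcard : Nat.card {a : Ω // ∀ u ∈ (P : Subgroup G), u • a = a} = f := by
    rw [hf, ← Fintype.card_subtype, ← Nat.card_eq_fintype_card]
    refine (Nat.card_congr (Equiv.subtypeEquiv e fun y => ?_)).symm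
    simp only [PtFix]
    refine forall₂_congr fun v _ => ?_
    rw [← he, e.injective.eq_iff]
  have hn : Nat.card Ω = (Finset.univ : Finset (G ⧸ H)).card := by
    rw [Finset.card_univ, ← Nat.card_congr e, Nat.card_eq_fintype_card]
  rw [hcard, hn]
  have hs : slack P (Finset.univ : Finset (G ⧸ H)) =
      ((p : ℤ) - 1) * (Finset.univ : Finset (G ⧸ H)).card - (2 * (p : ℤ) - 1) * f := by
    rw [slack, show (∑ y, wt P y) = ∑ y, if PtFix P y then -(p : ℤ) else (p : ℤ) - 1 from rfl,
      Finset.sum_ite, hf]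
    have := Finset.card_filter_add_card_filter_not (s := (Finset.univ : Finset (G ⧸ H))) (fun y => PtFix P y)
    simp only [Finset.sum_const, nsmul_eq_mul]
    rw [← this]
    push_cast
    ring
  rw [hs] at h
  have hp1 : 1 ≤ p := (Fact.out : p.Prime).one_le
  zify [hp1, show 1 ≤ 2 * p by omega]
  linarith

end CfsgLib.PraegerOrbit
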